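import Groth.Agent.Lib.TorPts21.BorelNormalizer
import Groth.Agent.S1488
import Mathlib.AlgebraicGeometry.Morphisms.FlatMono

/-!
# Normalisers of subgroups containing a Cartan subgroup
-/

set_option autoImplicit false
set_option linter.style.haveILetI false
set_option linter.unusedSectionVars false
set_option backward.isDefEq.respectTransparency.types false
set_option maxSynthPendingDepth 3

universe u

open CategoryTheory Limits MonoidalCategory CartesianMonoidalCategory MonObj AlgebraicGeometry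

noncomputable section

namespace Groth.Agent.SubCartan21

open DiagGL TorPts21


variable {k : Type u} [Field k] [IsAlgClosed k] {G : Over (Spec (CommRingCat.of k))} [GrpObj G]

set_option maxHeartbeats 1600000 in
/-- A point normalising a smooth subgroup that contains a torus and its centraliser lies in the subgroup as soon
as its reduction does. -/
theorem exists_lift_squareZero_gen {H T C : Over (Spec (CommRingCat.of k))} [GrpObj H] [GrpObj T] [GrpObj C]
    {iH : H ⟶ G} [IsMonHom iH] [Mono iH] (hs : Smooth H.hom) {iT : T ⟶ G} [IsMonHom iT] [Mono iT]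
    (hTtor : Red.IsTorus T) (t : T ⟶ H) (ht : t ≫ iH = iT) {c : C ⟶ G} (hC : Red.IsCentralizerOf iT c)
    (fC : C ⟶ H) (hfC : fC ≫ iH = c) (D : Type u) [CommRing D] (J : Ideal D)
    (hJ : J ^ 2 = ⊥) (b : Spec (CommRingCat.of D) ⟶ Spec (CommRingCat.of k)) (g : Over.mk b ⟶ G)
    (hg : NormalizesSub iH g) (z : Spec (CommRingCat.of (D ⧸ J)) ⟶ H.left)
    (hz : z ≫ iH.left = Spec.map (CommRingCat.ofHom (Ideal.Quotient.mk J)) ≫ g.left) :
    ∃ w : Over.mk b ⟶ H, w ≫ iH = g := by
  haveI := hs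
  haveI : IsMonHom t := TorsorSch25.isMonHom_of_points _ fun X a c => (cancel_mono iH).1 (by
    rw [Category.assoc, ht, MonObj.mul_comp, MonObj.mul_comp, Category.assoc, Category.assoc, ht])
  let q := Spec.map (CommRingCat.ofHom (Ideal.Quotient.mk J))
  let r : Over.mk (q ≫ b) ⟶ Over.mk b := Over.homMk q rfl
  -- lift the reduction
  obtain ⟨w, hw1, hw2⟩ := MTRigid29.exists_lift_of_surjective (SmoothLift15.isFormallySmoothHom_of_smooth H.hom)
    (Ideal.Quotient.mk J) Ideal.Quotient.mk_surjective (by rw [Ideal.mk_ker]; exact hJ) z b (by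
      rw [← Over.w iH, reassoc_of% hz]
      exact congrArg (q ≫ ·) (Over.w g).symm)
  let z₁ : Over.mk b ⟶ H := Over.homMk w hw2
  set g' : Over.mk b ⟶ G := (z₁ ≫ iH)⁻¹ * g with hg'def
  have hg' : NormalizesSub iH g' := normalizesSub_inv_mul iH hg z₁
  have hr : r ≫ g' = 1 := by
    have h0 : r ≫ g = r ≫ z₁ ≫ iH := Over.OverMorphism.ext (by
      show q ≫ g.left = q ≫ w ≫ iH.left
      rw [← Category.assoc, hw1]
      exact hz.symm)
    rw [hg'def, MonObj.comp_mul, GrpObj.comp_inv, h0, inv_mul_cancel]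
  -- the conjugated torus
  let str : ∀ Y : Over (Spec (CommRingCat.of D)), (Over.map b).obj Y ⟶ Over.mk b := fun Y => Over.homMk Y.hom rfl
  let e0 : Over.mk b ⟶ (Over.map b).obj (𝟙_ (Over (Spec (CommRingCat.of D)))) := Over.homMk (𝟙 _) (by simp)
  have hstr : ∀ (Y : Over (Spec (CommRingCat.of D))), str Y ≫ e0 = (Over.map b).map (toUnit Y) :=
    fun Y => Over.OverMorphism.ext (by
      show Y.hom ≫ 𝟙 _ = (toUnit Y).left
      rw [Category.comp_id]
      simpa using (Over.w (toUnit Y)).symm)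
  let e1 : (Over.map b).obj (𝟙_ (Over (Spec (CommRingCat.of D)))) ⟶ Over.mk b := Over.homMk (𝟙 _) (by simp)
  obtain ⟨s', hs'⟩ := fl_surjective b G (e1 ≫ g')
  have hsec : ∀ Y : Over (Spec (CommRingCat.of D)), fl b G (toUnit Y ≫ s') = str Y ≫ g' := fun Y => by
    rw [fl_comp, hs', ← Category.assoc]
    congr 1
  haveI : IsMonHom ((Over.pullback b).map iH) := inferInstance
  haveI : Mono ((Over.pullback b).map iH) := inferInstance
  obtain ⟨h', hh'⟩ := (hg' _ (str (Red.bc b T)) (fl b T (𝟙 (Red.bc b T)) ≫ t)).1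
  obtain ⟨v, hv⟩ := fl_surjective b H h'
  have hvY : ∀ (Y : Over (Spec (CommRingCat.of D))) (y : Y ⟶ Red.bc b T),
      (y ≫ v) ≫ (Over.pullback b).map iH = (toUnit Y ≫ s') * (y ≫ (Over.pullback b).map iT) * (toUnit Y ≫ s')⁻¹ := by
    have h0 : v ≫ (Over.pullback b).map iH =
        (toUnit _ ≫ s') * (Over.pullback b).map iT * (toUnit _ ≫ s')⁻¹ := fl_injective b G (by
      rw [fl_mul, fl_mul, DiagGL.fl_comp_map, MTRigid29.fl_inv b G, hsec, hv]
      rw [show fl b G ((Over.pullback b).map iT) = fl b T (𝟙 (Red.bc b T)) ≫ iT by rw [← DiagGL.fl_comp_map, Category.id_comp]]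
      rw [← hh', Category.assoc (fl b T _) t iH, ht])
    intro Y y
    rw [Category.assoc, h0, MonObj.comp_mul, MonObj.comp_mul, GrpObj.comp_inv, ← Category.assoc, comp_toUnit]
  haveI : IsMonHom v := TorsorSch25.isMonHom_of_points _ fun Y a c =>
    (cancel_mono ((Over.pullback b).map iH)).1 (by
      rw [hvY, MonObj.mul_comp, MonObj.mul_comp _ _ ((Over.pullback b).map iH), hvY, hvY]
      group)
  obtain ⟨A, _, _, jj, hjj, ⟨e⟩⟩ := MTRigid29.exists_model_affine
    (MTRigid29.isMT_of_ft (MTRigid29.isMultTypeFT_bc (isMultTypeFT_of_isTorus hTtor) b))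
  obtain ⟨gb, -, hgb⟩ := MTRigid29.exists_conj_nilpotent e hjj ⟨2, hJ⟩ (MorphismProperty.pullback_snd H.hom b hs)
    ((Over.pullback b).map t) v (1 : (Over.mk q : Over (Spec (CommRingCat.of D))) ⟶ Red.bc b H) fun Y p y => by
      rw [MonObj.comp_one, inv_one, _root_.one_mul, _root_.mul_one, ← cancel_mono ((Over.pullback b).map iH), hvY]
      have h1 : toUnit Y ≫ s' = 1 := fl_injective b G (by
        have hp : str Y = (Over.homMk p.left (by
            show p.left ≫ q ≫ b = Y.hom ≫ b
            rw [← Category.assoc]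
            exact congrArg (· ≫ b) (Over.w p)) : (Over.map b).obj Y ⟶ Over.mk (q ≫ b)) ≫ r :=
          Over.OverMorphism.ext (Over.w p).symm
        rw [hsec, hp, Category.assoc, hr, MonObj.comp_one, MTRigid29.fl_one])
      rw [h1, inv_one, _root_.one_mul, _root_.mul_one, Category.assoc, ← Functor.map_comp, ht]
  -- the corrected point centralises the torus
  let zb : Over.mk b ⟶ H := e0 ≫ fl b H gb
  have hzb : ∀ Y : Over (Spec (CommRingCat.of D)), fl b H (toUnit Y ≫ gb) = str Y ≫ zb := fun Y => by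
    rw [fl_comp, ← hstr, Category.assoc]
  obtain ⟨zc, hzc⟩ := (hC.2.2 _ ((zb ≫ iH)⁻¹ * g')).2 fun X' x a => by
    let Y : Over (Spec (CommRingCat.of D)) := Over.mk x.left
    let i : X' ≅ (Over.map b).obj Y := Over.isoMk (Iso.refl _) ((Category.id_comp _).trans (Over.w x))
    have hix : i.hom ≫ str Y = x := Over.OverMorphism.ext (Category.id_comp _)
    obtain ⟨y, hy⟩ := fl_surjective b T (i.inv ≫ a)
    have h2 := congrArg (fun m => fl b G (m ≫ (Over.pullback b).map iH)) (hgb Y y)
    simp only [hvY, MonObj.mul_comp, GrpObj.inv_comp, Category.assoc y, ← Functor.map_comp, ht, fl_mul,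
      MTRigid29.fl_inv b G, hsec, DiagGL.fl_comp_map, hy, hzb] at h2
    have h3 := congrArg (i.hom ≫ ·) h2
    simp only [MonObj.comp_mul, GrpObj.comp_inv, ← Category.assoc, hix, Iso.hom_inv_id, Category.id_comp] at h3
    simp only [MonObj.comp_mul, GrpObj.comp_inv, ← Category.assoc]
    calc ((x ≫ zb) ≫ iH)⁻¹ * (x ≫ g') * (a ≫ iT)
        = ((x ≫ zb) ≫ iH)⁻¹ * ((x ≫ g') * (a ≫ iT) * (x ≫ g')⁻¹) * (x ≫ g') := by group
      _ = (a ≫ iT) * (((x ≫ zb) ≫ iH)⁻¹ * (x ≫ g')) := by rw [h3]; group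
  refine ⟨z₁ * zb * (zc ≫ fC), ?_⟩
  rw [MonObj.mul_comp, MonObj.mul_comp, Category.assoc zc fC iH, hfC, hzc, hg'def]
  group

/-- A smooth subgroup containing a torus and its centraliser is open in its normaliser. -/
theorem flat_to_normalizer {H T C N : Over (Spec (CommRingCat.of k))} [GrpObj H] [GrpObj T] [GrpObj C]
    {iH : H ⟶ G} [IsMonHom iH] [Mono iH] (hs : Smooth H.hom) {iT : T ⟶ G} [IsMonHom iT] [Mono iT]
    (hTtor : Red.IsTorus T) (t : T ⟶ H) (ht : t ≫ iH = iT) {c : C ⟶ G} (hC : Red.IsCentralizerOf iT c)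
    (fC : C ⟶ H) (hfC : fC ≫ iH = c) [LocallyOfFiniteType N.hom] (n : N ⟶ G) [Mono n]
    (hn : NormalizesSub iH n) (f : H ⟶ N) (hf : f ≫ n = iH) : Flat f.left := by
  haveI := hs
  haveI : LocallyOfFinitePresentation (f.left ≫ N.hom) := by rw [Over.w f]; infer_instance
  haveI : LocallyOfFinitePresentation f.left := SchBasic.locallyOfFinitePresentation_of_comp f.left N.hom
  haveI : Mono iH.left := Over.mono_left_of_mono iH
  haveI : Smooth f.left := (Groth.Agent.S1488.result f.left).2 ⟨inferInstance, fun A _ I hI a b hab => by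
    let g₀ : Over.mk (b ≫ N.hom) ⟶ N := Over.homMk b rfl
    obtain ⟨w, hw⟩ := exists_lift_squareZero_gen hs hTtor t ht hC fC hfC A I hI (b ≫ N.hom) (g₀ ≫ n)
      (fun X' x h => by
        have := hn X' (x ≫ g₀) h
        simpa only [Category.assoc] using this) a (by
        rw [← hf, Over.comp_left, ← Category.assoc, ← hab, Category.assoc]
        rfl)
    have hwf : w ≫ f = g₀ := (cancel_mono n).1 (by rw [Category.assoc, hf, hw])
    refine ⟨w.left, (cancel_mono iH.left).1 ?_, congrArg CommaMorphism.left hwf⟩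
    rw [Category.assoc, ← Over.comp_left, hw, ← hf, Over.comp_left, Over.comp_left, ← Category.assoc,
      show Spec.map (CommRingCat.ofHom (Ideal.Quotient.mk I)) ≫ g₀.left = a ≫ f.left from hab, Category.assoc]⟩
  infer_instance

end Groth.Agent.SubCartan21
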