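import Groth.Agent.Lib.CartanT21.Iso
import Groth.Agent.Lib.SubCartan21.Lift
import Groth.Agent.Lib.CartanNhd21.Field
import Groth.Agent.Lib.CentMT21.Preimage
import Groth.Agent.S3025
import Groth.Agent.S5260
import Mathlib.AlgebraicGeometry.Morphisms.FlatDescent

/-!
# Subgroups whose geometric fibres contain Cartan subgroups are open in their normalisers
-/

set_option autoImplicit false
set_option linter.style.haveILetI false
set_option linter.unusedSectionVars false
set_option backward.isDefEq.respectTransparency.types false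

universe u

open CategoryTheory Limits MonoidalCategory CartesianMonoidalCategory MonObj AlgebraicGeometry

noncomputable section

namespace Groth.Agent.SubCartan21

variable {S : Scheme.{u}}

/-- The fibre over a point is flat when the geometric one is. -/
theorem flat_fibre {A B : Over S} (l : A ⟶ B) (s : S)
    (h : Flat ((Over.pullback (Red.geomPt s)).map l).left) : Flat (pullback.snd l.left (B.hom.fiberι s)) := by
  let g := B.hom
  let K := AlgebraicClosure (S.residueField s)
  let ρ : Spec (CommRingCat.of K) ⟶ Spec (S.residueField s) :=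
    Spec.map (CommRingCat.ofHom (algebraMap (S.residueField s) K))
  let a := ρ ≫ S.fromSpecResidueField s
  let f := l.left
  let w : pullback g a ⟶ g.fiber s := pullback.lift (pullback.fst g a) (pullback.snd g a ≫ ρ)
    (by rw [Category.assoc]; exact pullback.condition)
  have hw1 : w ≫ g.fiberι s = pullback.fst g a := pullback.lift_fst _ _ _
  have hsq : IsPullback w (pullback.snd g a) (g.fiberToSpecResidueField s) ρ :=
    IsPullback.of_right (by rw [show w ≫ pullback.fst g (S.fromSpecResidueField s) = pullback.fst g a from hw1]; exact IsPullback.of_hasPullback g a) (pullback.lift_snd _ _ _)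
      (IsPullback.of_hasPullback g (S.fromSpecResidueField s))
  haveI : Flat w := MorphismProperty.of_isPullback (P := @Flat) hsq.flip inferInstance
  haveI : Surjective ρ :=
    ⟨Function.surjective_to_subsingleton (α := Spec (CommRingCat.of K)) (β := Spec (S.residueField s)) _⟩
  haveI : Surjective w := MorphismProperty.of_isPullback (P := @Surjective) hsq.flip inferInstance
  haveI : QuasiCompact w := MorphismProperty.of_isPullback (P := @QuasiCompact) hsq.flip inferInstance
  let F := pullback.snd f (g.fiberι s)
  have hbig : IsPullback (pullback.fst f (pullback.fst g a)) (pullback.snd f (pullback.fst g a)) f (w ≫ g.fiberι s) := by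
    rw [hw1]; exact IsPullback.of_hasPullback _ _
  let m : pullback f (pullback.fst g a) ⟶ pullback f (g.fiberι s) :=
    pullback.lift (pullback.fst f _) (pullback.snd f _ ≫ w) (by rw [Category.assoc, hw1]; exact pullback.condition)
  have hl : IsPullback m (pullback.snd f (pullback.fst g a)) F w :=
    IsPullback.of_right (by rw [pullback.lift_fst]; exact hbig) (pullback.lift_snd _ _ _)
      (IsPullback.of_hasPullback f (g.fiberι s))
  refine MorphismProperty.of_pullback_snd_of_descendsAlong (P := @Flat)
    (Q := @Surjective ⊓ @Flat ⊓ @QuasiCompact) (f := F) (g := w) ⟨⟨inferInstance, inferInstance⟩, inferInstance⟩ ?_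
  show Flat (pullback.snd F w)
  have hsqA : IsPullback ((Over.pullback (Red.geomPt s)).map l).left (pullback.fst A.hom (Red.geomPt s))
      (pullback.fst B.hom (Red.geomPt s)) l.left := by
    refine IsPullback.of_right (h₁₂ := pullback.snd B.hom (Red.geomPt s)) (v₁₃ := Red.geomPt s) (h₂₂ := B.hom) ?_ ?_
      (IsPullback.of_hasPullback B.hom (Red.geomPt s)).flip
    · rw [Over.w l]
      erw [Over.w ((Over.pullback (Red.geomPt s)).map l)]
      exact (IsPullback.of_hasPullback A.hom (Red.geomPt s)).flip
    · exact pullback.lift_fst _ _ _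
  haveI := h
  haveI : Flat (pullback.snd f (pullback.fst g a)) := by
    show Flat (pullback.snd l.left (pullback.fst B.hom (Red.geomPt s)))
    rw [← hsqA.flip.isoPullback_inv_snd]
    infer_instance
  rw [← hl.isoPullback_inv_snd]
  infer_instance


variable {G H : Over S} [GrpObj G] [GrpObj H]

set_option maxHeartbeats 1000000 in
/-- The normaliser, and the inclusion into it, which is open. -/
theorem exists_normalizer_open [Smooth G.hom] [QuasiCompact G.hom] [QuasiSeparated G.hom] [Smooth H.hom]
    (i : H ⟶ G) [IsMonHom i] [Mono i] (hHconn : ∀ s : S, ConnectedSpace ↥(Red.geomFibre s H).left)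
    (hHC : ∀ s : S, ∃ (C' : Over (Spec (CommRingCat.of (AlgebraicClosure (S.residueField s))))) (_ : GrpObj C')
      (c' : C' ⟶ Red.geomFibre s H), SGA3x.IsCartanOver _ (c' ≫ (Over.pullback (Red.geomPt s)).map i)) :
    ∃ (N : Over S) (_ : GrpObj N) (n : N ⟶ G) (f : H ⟶ N), Red.IsNormalizerOf i n ∧ IsClosedImmersion n.left ∧
      QuasiCompact N.hom ∧ LocallyOfFinitePresentation N.hom ∧ f ≫ n = i ∧ IsOpenImmersion f.left := by
  have hHf : ∀ s : S, _root_.IsConnected (H.hom.base ⁻¹' {s}) := fun s =>
    CentMT21.isConnected_fibre_of_geom s (hHconn s)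
  obtain ⟨hHsep, hHqc⟩ := Groth.Agent.S3025.result S H hHf
  haveI := hHsep
  haveI := hHqc
  obtain ⟨N, _, n, hN, hnc, hnl⟩ := Groth.Agent.S5260.result G H (fun s => by
    haveI : ConnectedSpace ↥(H.hom.base ⁻¹' {s}) := isConnected_iff_connectedSpace.1 (hHf s)
    exact (H.hom.fiberHomeo s).symm.surjective.connectedSpace (H.hom.fiberHomeo s).symm.continuous) i
  haveI := hN.1
  haveI := hN.2.1
  haveI := hnc
  haveI := hnl
  haveI hNl : LocallyOfFinitePresentation N.hom := by rw [← Over.w n]; infer_instance
  have hNq : QuasiCompact N.hom := by rw [← Over.w n]; infer_instance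
  obtain ⟨f, hf⟩ := (hN.2.2 H i).2 fun X' x h => by
    have := TorPts21.normalizesSub_lift i (𝟙 H) X' x h
    rwa [Category.id_comp] at this
  haveI : Mono (f ≫ n) := by rw [hf]; infer_instance
  haveI : Mono f := mono_of_mono f n
  haveI : Flat (f.left ≫ N.hom) := by rw [Over.w f]; infer_instance
  haveI : LocallyOfFinitePresentation (f.left ≫ N.hom) := by rw [Over.w f]; infer_instance
  haveI : Flat f.left := FlatH4.flat_of_fibres f.left N.hom fun s => by
    refine flat_fibre f s ?_
    let g := Red.geomPt s
    obtain ⟨C', _, c', hm, hmono, T, _, iT, hT, hC⟩ := hHC s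
    haveI := hT.1
    haveI := hT.2.1
    obtain ⟨y, hy⟩ := (hC.2.2 T iT).2 fun X x a => by
      rw [← MonObj.mul_comp, ← MonObj.mul_comp,
        MTRigid29.commute_of_isMultTypeFT (TorPts21.isMultTypeFT_of_isTorus hT.2.2.1)]
    haveI : Smooth (Red.bc g H).hom := inferInstanceAs (Smooth (pullback.snd H.hom g))
    haveI : LocallyOfFiniteType (Red.bc g N).hom := inferInstanceAs (LocallyOfFiniteType (pullback.snd N.hom g))
    haveI := MTRigid29.isMonHom_map i g
    haveI : Mono ((Over.pullback g).map i) := Functor.map_mono _ _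
    haveI : Mono ((Over.pullback g).map n) := Functor.map_mono _ _
    exact flat_to_normalizer inferInstance hT.2.2.1 (y ≫ c') (by rw [Category.assoc, hy]) hC c' rfl
      ((Over.pullback g).map n) (TorPts21.normalizesSub_bc i g ((hN.2.2 N n).1 ⟨𝟙 _, Category.id_comp _⟩))
      ((Over.pullback g).map f) (by rw [← Functor.map_comp, hf])
  haveI : LocallyOfFinitePresentation f.left := SchBasic.locallyOfFinitePresentation_of_comp f.left N.hom
  haveI : Mono f.left := Over.mono_left_of_mono f
  exact ⟨N, inferInstance, n, f, hN, hnc, hNq, hNl, hf, IsOpenImmersion.of_flat_of_mono f.left⟩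

set_option maxHeartbeats 1000000 in
/-- A central subgroup lies in every subgroup whose geometric fibres contain Cartan subgroups. -/
theorem exists_lift_central [Smooth G.hom] [QuasiCompact G.hom] [QuasiSeparated G.hom] [Smooth H.hom]
    (i : H ⟶ G) [IsMonHom i] [Mono i] (hHconn : ∀ s : S, ConnectedSpace ↥(Red.geomFibre s H).left)
    (hHC : ∀ s : S, ∃ (C' : Over (Spec (CommRingCat.of (AlgebraicClosure (S.residueField s))))) (_ : GrpObj C')
      (c' : C' ⟶ Red.geomFibre s H), SGA3x.IsCartanOver _ (c' ≫ (Over.pullback (Red.geomPt s)).map i))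
    {Z : Over S} [GrpObj Z] (z : Z ⟶ G)
    (hc : ∀ (X : Over S) (x : X ⟶ Z) (g : X ⟶ G), (x ≫ z) * g = g * (x ≫ z)) :
    ∃ f : Z ⟶ H, f ≫ i = z := by
  obtain ⟨N, _, n, f, hN, -, -, -, hf, hfo⟩ := exists_normalizer_open i hHconn hHC
  haveI := hN.2.1
  haveI := hfo
  obtain ⟨zN, hzN⟩ := (hN.2.2 Z z).2 fun X' x h =>
    ⟨⟨h, by rw [hc X' x (h ≫ i), mul_inv_cancel_right]⟩,
     ⟨h, by rw [_root_.mul_assoc, ← hc X' x (h ≫ i), inv_mul_cancel_left]⟩⟩
  have hrange : Set.range zN.left ⊆ Set.range f.left := by
    rintro _ ⟨p, rfl⟩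
    let s := Z.hom p
    let g := Red.geomPt s
    obtain ⟨C', _, c', hm, hmono, T, _, iT, hT, hC⟩ := hHC s
    obtain ⟨w, hw⟩ := (hC.2.2 _ ((Over.pullback g).map z)).2 fun X x a => by
      apply DiagGL.fl_injective g G
      rw [DiagGL.fl_mul, DiagGL.fl_mul, DiagGL.fl_comp_map]
      exact hc _ _ _
    haveI : Mono ((Over.pullback g).map n) := Functor.map_mono _ _
    have e : (w ≫ c') ≫ (Over.pullback g).map f = (Over.pullback g).map zN :=
      (cancel_mono ((Over.pullback g).map n)).1 (by
        rw [Category.assoc, ← Functor.map_comp, ← Functor.map_comp, hf, hzN, Category.assoc, hw])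
    obtain ⟨p', hp', -⟩ := Scheme.Pullback.exists_preimage_pullback (f := Z.hom) (g := g) p
      (IsLocalRing.closedPoint _) (by rw [CentMT21.geomPt_apply])
    have e' : ((w ≫ c').left ≫ pullback.fst H.hom g) ≫ f.left = pullback.fst Z.hom g ≫ zN.left := by
      rw [(MTRigid29.isPullback_map_left g zN).w, ← e]
      simp only [Over.comp_left, Category.assoc]
      rw [(MTRigid29.isPullback_map_left g f).w]
    exact ⟨((w ≫ c').left ≫ pullback.fst H.hom g) p', by
      rw [← Scheme.Hom.comp_apply, e', Scheme.Hom.comp_apply, hp']⟩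
  let l := IsOpenImmersion.lift f.left zN.left hrange
  have hl : l ≫ f.left = zN.left := IsOpenImmersion.lift_fac _ _ _
  refine ⟨Over.homMk l (by rw [← Over.w f, reassoc_of% hl, Over.w zN]), ?_⟩
  rw [← hzN, ← hf, ← Category.assoc]
  congr 1
  exact Over.OverMorphism.ext hl

end Groth.Agent.SubCartan21
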