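import Groth.Agent.Lib.CartanNhd21.Field
import Groth.Agent.Lib.CentMT21.Preimage
import Groth.Agent.S3025

/-!
# Cartan subgroups of a subgroup containing a Cartan subgroup
-/

set_option autoImplicit false
set_option linter.style.haveILetI false
set_option linter.unusedSectionVars false
set_option backward.isDefEq.respectTransparency.types false

universe u

open CategoryTheory Limits MonoidalCategory CartesianMonoidalCategory MonObj AlgebraicGeometry

noncomputable section

namespace Groth.Agent.SubCartan21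

open MTRigid29 CartanT21

variable {K : Type u} [Field K] [IsAlgClosed K] {G H C : Over (Spec (CommRingCat.of K))} [GrpObj G] [GrpObj H] [GrpObj C]
  [Smooth G.hom] [QuasiCompact G.hom] [Smooth H.hom] [QuasiCompact H.hom] (i : H ⟶ G) [IsMonHom i] [Mono i]

set_option maxHeartbeats 1000000 in
/-- Cartan subgroups of `H` are the Cartan subgroups of `G` lying in `H`, when `H` contains one. -/
theorem cartanOver_comp_iff {C' : Over (Spec (CommRingCat.of K))} [GrpObj C'] (c' : C' ⟶ H)
    (hC' : SGA3x.IsCartanOver K (c' ≫ i)) (c : C ⟶ H) :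
    SGA3x.IsCartanOver K c ↔ SGA3x.IsCartanOver K (c ≫ i) := by
  constructor
  · intro hc
    obtain ⟨hm, hmono, T', _, j', hT', hC'c⟩ := id hC'
    obtain ⟨hcm, hcmono, T, _, j, hT, hCc⟩ := id hc
    haveI := hm
    haveI := hmono
    haveI := hT'.1
    haveI := hT'.2.1
    haveI := hT.1
    haveI := hcm
    haveI := hcmono
    obtain ⟨y, hy⟩ := (hC'c.2.2 T' j').2 fun X x a => by
      rw [← MonObj.mul_comp, ← MonObj.mul_comp,
        commute_of_isMultTypeFT (TorPts21.isMultTypeFT_of_isTorus hT'.2.2.1)]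
    have ht' : Red.IsMaximalTorus (y ≫ c') :=
      isMaximalTorus_factor i (y ≫ c') (by rw [Category.assoc, hy]; exact hT')
    haveI := ht'.1
    obtain ⟨h, φ, hφ⟩ := MTConj21.exists_conj_maxTorus_disc (TorPts21.isMaxTorus_of_isMaximalTorus hT)
      (TorPts21.isMaxTorus_of_isMaximalTorus ht')
    have hφi : φ.hom ≫ j' = (j ≫ i) ≫ (conjIso (h ≫ i)).hom := by
      rw [← hy, ← Category.assoc y, ← Category.assoc φ.hom, ← hφ, comp_conjIso, MonObj.mul_comp, MonObj.mul_comp,
        GrpObj.inv_comp, Category.assoc]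
    haveI : IsMonHom φ.hom := MTExt21.isMonHom_of_comp' j' φ.hom (by rw [hφi]; infer_instance)
    haveI : Mono ((j ≫ i) ≫ (conjIso (h ≫ i)).hom) := by rw [← hφi]; infer_instance
    haveI : IsMonHom φ.symm.hom := inferInstanceAs (IsMonHom φ.inv)
    haveI : IsMonHom (conjIso (h ≫ i)).symm.hom := inferInstanceAs (IsMonHom (conjIso (h ≫ i)).inv)
    have hjG : Red.IsMaximalTorus (j ≫ i) :=
      MTDesc21.isMaximalTorus_transfer hT' φ (conjIso (h ≫ i)) (j ≫ i) hφi.symm hT.2.2.1
    refine ⟨inferInstance, inferInstance, T, inferInstance, j ≫ i, hjG, inferInstance, inferInstance,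
      fun X g => ⟨fun ⟨z, hz⟩ X' x a => ?_, fun hg => ?_⟩⟩
    · have h1 := congrArg (· ≫ i) ((hCc.2.2 X (z ≫ c)).1 ⟨z, rfl⟩ X' x a)
      simp only [MonObj.mul_comp, Category.assoc] at h1
      rw [← hz]
      exact h1
    · obtain ⟨w, hw⟩ := (hC'c.2.2 X (g ≫ (conjIso (h ≫ i)).hom)).2 fun X' x a => by
        have h1 := congrArg (· ≫ (conjIso (h ≫ i)).hom) (hg X' x (a ≫ φ.inv))
        simpa only [MonObj.mul_comp, Category.assoc, ← hφi, Iso.inv_hom_id_assoc] using h1
      have hg' : ((w ≫ c') ≫ (conjIso h).inv) ≫ i = g := by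
        rw [← cancel_mono (conjIso (h ≫ i)).hom, ← hw, comp_conjIso, ← Category.assoc (toUnit X) h i,
          ← GrpObj.inv_comp, ← MonObj.mul_comp, ← MonObj.mul_comp, ← comp_conjIso]
        simp
      obtain ⟨z, hz⟩ := (hCc.2.2 X ((w ≫ c') ≫ (conjIso h).inv)).2 fun X' x a => (cancel_mono i).1 (by
        rw [MonObj.mul_comp, MonObj.mul_comp]
        simp only [Category.assoc] at hg' ⊢
        rw [hg']
        exact hg X' x a)
      exact ⟨z, by rw [← Category.assoc, hz, hg']⟩
  · intro hc
    obtain ⟨hm, hmono, T, _, j, hT, hC⟩ := id hc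
    haveI := hm
    haveI := hmono
    haveI := hT.1
    haveI : IsMonHom c := MTExt21.isMonHom_of_comp' i c hm
    haveI : Mono c := mono_of_mono c i
    obtain ⟨y, hy⟩ := (hC.2.2 T j).2 fun X x a => by
      rw [← MonObj.mul_comp, ← MonObj.mul_comp,
        commute_of_isMultTypeFT (TorPts21.isMultTypeFT_of_isTorus hT.2.2.1)]
    refine ⟨inferInstance, inferInstance, T, inferInstance, y ≫ c,
      isMaximalTorus_factor i (y ≫ c) (by rw [Category.assoc, hy]; exact hT), inferInstance, inferInstance,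
      fun X g => ⟨fun ⟨z, hz⟩ X' x a => (cancel_mono i).1 ?_, fun hg => ?_⟩⟩
    · rw [MonObj.mul_comp, MonObj.mul_comp, ← hz]
      simp only [Category.assoc, hy]
      exact (hC.2.2 X (z ≫ c ≫ i)).1 ⟨z, rfl⟩ X' x a
    · obtain ⟨z, hz⟩ := (hC.2.2 X (g ≫ i)).2 fun X' x a => by
        have h1 := congrArg (· ≫ i) (hg X' x a)
        simpa only [MonObj.mul_comp, Category.assoc, hy] using h1
      exact ⟨z, (cancel_mono i).1 (by rw [Category.assoc, hz])⟩

/-- Relative version. -/
theorem isCartan_comp_iff {S : Scheme.{u}} {G H C : Over S} [GrpObj G] [GrpObj H] [GrpObj C]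
    [Smooth G.hom] [QuasiCompact G.hom] [Smooth H.hom] (i : H ⟶ G) [IsMonHom i] [Mono i]
    (hHconn : ∀ s : S, ConnectedSpace ↥(Red.geomFibre s H).left)
    (hHC : ∀ s : S, ∃ (C' : Over (Spec (CommRingCat.of (AlgebraicClosure (S.residueField s))))) (_ : GrpObj C')
      (c' : C' ⟶ Red.geomFibre s H), SGA3x.IsCartanOver _ (c' ≫ (Over.pullback (Red.geomPt s)).map i))
    (c : C ⟶ H) : SGA3x.IsCartan c ↔ SGA3x.IsCartan (c ≫ i) := by
  haveI := (Groth.Agent.S3025.result S H fun s => CentMT21.isConnected_fibre_of_geom s (hHconn s)).2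
  have key : ∀ s : S, SGA3x.IsCartanOver _ ((Over.pullback (Red.geomPt s)).map c) ↔
      SGA3x.IsCartanOver _ ((Over.pullback (Red.geomPt s)).map (c ≫ i)) := fun s => by
    let g := Red.geomPt s
    haveI : Smooth (Red.bc g G).hom := inferInstanceAs (Smooth (pullback.snd G.hom g))
    haveI : QuasiCompact (Red.bc g G).hom := inferInstanceAs (QuasiCompact (pullback.snd G.hom g))
    haveI : Smooth (Red.bc g H).hom := inferInstanceAs (Smooth (pullback.snd H.hom g))
    haveI : QuasiCompact (Red.bc g H).hom := inferInstanceAs (QuasiCompact (pullback.snd H.hom g))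
    haveI := isMonHom_map i g
    haveI : Mono ((Over.pullback g).map i) := Functor.map_mono _ _
    obtain ⟨C', _, c', hC'⟩ := hHC s
    rw [Functor.map_comp]
    exact cartanOver_comp_iff _ c' hC' _
  constructor
  · rintro ⟨hm, hmono, hs, hf⟩
    haveI := hm
    haveI := hmono
    exact ⟨inferInstance, inferInstance, hs, fun s => (key s).1 (hf s)⟩
  · rintro ⟨hm, hmono, hs, hf⟩
    haveI := hm
    haveI := hmono
    exact ⟨MTExt21.isMonHom_of_comp' i c hm, mono_of_mono c i, hs, fun s => (key s).2 (hf s)⟩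

end Groth.Agent.SubCartan21
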